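import Groth.Agent.H95.Torsor.Vanish
import Groth.Agent.Lib.ZarCoh.Compare

/-!
# Vanishing of `H²` kills Cech 2-cocycles after refining the covering
-/

set_option autoImplicit false
universe u

open CategoryTheory CategoryTheory.Limits TopologicalSpace Opposite

namespace Groth.Agent.Lib.Exchange.PicLift

open Groth.Agent.Lib.Cech.Complex Groth.Agent.Lib.Cech.Sections Groth.Agent.Lib.Cech.Criterion
  Groth.Agent.Lib.Cech.Acyclic

variable {X : TopCat.{u}}

theorem exists_refined_coboundary (F : CohTop.Ab X) (h : Subsingleton (CohTop.H F 2))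
    {ι : Type u} (U : ι → Opens X) (hU : iSup U = ⊤) (c : Cochain U F.obj 2)
    (hc : dC U F.obj 2 c = 0) :
    ∃ (κ : Type u) (V : κ → Opens X) (r : κ → ι) (hV : ∀ k, V k ≤ U (r k))
      (a : ∀ k l, F.obj.obj (op (V k ⊓ V l))), iSup V = ⊤ ∧
      ∀ (k l m : κ) (W : Opens X) (hk : W ≤ V k) (hl : W ≤ V l) (hm : W ≤ V m)
        (hW : W ≤ inter U ![r k, r l, r m]),
        res F.obj hW (c ![r k, r l, r m]) = res F.obj (le_inf hl hm) (a l m) -
          res F.obj (le_inf hk hm) (a k m) + res F.obj (le_inf hk hl) (a k l) := by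
  let S := cokerSeq (Injective.ι F)
  have hS : S.ShortExact := cokerSeq_shortExact _
  haveI : Injective S.X₂ := inferInstanceAs (Injective (Injective.under F))
  haveI : Subsingleton (CohTop.HU S.X₁ (0 + 2) (⊤ : Opens X)) :=
    (Lib.ZarCoh.Compare.hTop F 2).symm.toEquiv.subsingleton
  haveI h1 := subsingleton_HU_X₃ hS (⊤ : Opens X) 0
  haveI hQ : Subsingleton (CohTop.H S.X₃ 1) :=
    @Equiv.subsingleton _ _ (Lib.ZarCoh.Compare.hTop S.X₃ 1).toEquiv h1
  obtain ⟨b, hb⟩ := exactSucc_of_injective U S.X₂ 1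
    (Groth.Agent.Lib.Cech.Complex.map S.f.hom 2 c) (by rw [← map_dC, hc, map_zero])
  obtain ⟨p, hp⟩ := Groth.Agent.H95.Torsor.exists_coboundary S.X₃ hQ U hU
    (Groth.Agent.Lib.Cech.Complex.map S.g.hom 1 b) (by
      rw [← map_dC, hb]
      exact funext fun i => app_zero _ _)
  have hls : TopCat.Presheaf.IsLocallySurjective S.g.hom :=
    (TopCat.Sheaf.isLocallySurjective_iff_epi S.g).mpr hS.epi_g
  have hloc : ∀ x : X, ∃ (i : ι) (V : Opens X) (hV : V ≤ inter U fun _ : Fin 1 => i)
      (t : S.X₂.obj.obj (op V)), x ∈ V ∧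
      S.g.hom.app (op V) t = res S.X₃.obj hV (p fun _ => i) := fun x => by
    obtain ⟨i, hi⟩ := Opens.mem_iSup.1 (hU.ge (Opens.mem_top x))
    obtain ⟨V, hV, ⟨t, ht⟩, hx⟩ := (TopCat.Presheaf.isLocallySurjective_iff S.g.hom).mp hls
      (inter U fun _ : Fin 1 => i) (p fun _ => i) x
      ((le_iInf fun _ => le_rfl : U i ≤ inter U fun _ : Fin 1 => i) hi)
    exact ⟨i, V, hV, t, hx, ht⟩
  choose r V hV t hx ht using hloc
  have hVU : ∀ x, V x ≤ U (r x) := fun x => (hV x).trans (inter_le U _ 0)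
  have h2 : ∀ k l, V k ⊓ V l ≤ inter U ![r k, r l] := fun k l => le_iInf fun a => by
    fin_cases a
    · exact inf_le_left.trans (hVU k)
    · exact inf_le_right.trans (hVU l)
  let β : ∀ k l, S.X₂.obj.obj (op (V k ⊓ V l)) := fun k l => res S.X₂.obj (h2 k l) (b ![r k, r l]) -
    (res S.X₂.obj inf_le_right (t l) - res S.X₂.obj inf_le_left (t k))
  have hβ : ∀ k l, ∃ a : F.obj.obj (op (V k ⊓ V l)), S.f.hom.app (op (V k ⊓ V l)) a = β k l := by
    intro k l
    refine app_exact hS _ _ ?_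
    have e : S.g.hom.app _ (b ![r k, r l]) =
        res S.X₃.obj (inter_le_face U ![r k, r l] 0) (p (![r k, r l] ∘ (0 : Fin 2).succAbove)) -
          res S.X₃.obj (inter_le_face U ![r k, r l] 1) (p (![r k, r l] ∘ (1 : Fin 2).succAbove)) := by
      have := (congr_fun hp ![r k, r l]).symm
      rw [dC_apply, Fin.sum_univ_two] at this
      simp only [Fin.val_zero, pow_zero, one_smul, Fin.val_one, pow_one, neg_smul, ← sub_eq_add_neg]
        at this
      exact this
    simp only [β, map_sub, res_naturality, ht, res_res, e]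
    rw [sub_eq_zero]
    refine congrArg₂ (· - ·) ?_ ?_
    · exact cochain_congr U S.X₃.obj p (funext fun a : Fin 1 => by fin_cases a; rfl) _ _
    · exact cochain_congr U S.X₃.obj p (funext fun a : Fin 1 => by fin_cases a; rfl) _ _
  choose a ha using hβ
  refine ⟨X, V, r, hVU, a, eq_top_iff.2 fun x _ => Opens.mem_iSup.2 ⟨x, hx x⟩,
    fun k l m W hk hl hm hW => ?_⟩
  refine app_injective hS W ?_
  rw [map_add, map_sub]
  have hn : ∀ {A B : Opens X} (h : A ≤ B) (x : F.obj.obj (op B)),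
      S.f.hom.app (op A) (res F.obj h x) = res S.X₂.obj h (S.f.hom.app (op B) x) :=
    fun h x => res_naturality S.f.hom h x
  simp only [hn, ha, β, map_sub, res_res]
  have e : S.f.hom.app _ (c ![r k, r l, r m]) =
      dC U S.X₂.obj 1 b ![r k, r l, r m] := (congr_fun hb _).symm
  rw [e, dC_apply, Fin.sum_univ_three]
  simp only [Fin.val_zero, pow_zero, one_smul, Fin.val_one, pow_one, neg_smul, Fin.val_two,
    neg_one_sq, map_add, map_neg, res_res]
  have f0 : ![r k, r l, r m] ∘ (0 : Fin 3).succAbove = ![r l, r m] :=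
    funext fun a => by fin_cases a <;> rfl
  have f1 : ![r k, r l, r m] ∘ (1 : Fin 3).succAbove = ![r k, r m] :=
    funext fun a => by fin_cases a <;> rfl
  have f2 : ![r k, r l, r m] ∘ (2 : Fin 3).succAbove = ![r k, r l] :=
    funext fun a => by fin_cases a <;> rfl
  rw [cochain_congr U S.X₂.obj b f0 _ ((le_inf hl hm).trans (h2 l m)),
    cochain_congr U S.X₂.obj b f1 _ ((le_inf hk hm).trans (h2 k m)),
    cochain_congr U S.X₂.obj b f2 _ ((le_inf hk hl).trans (h2 k l))]
  abel

end Groth.Agent.Lib.Exchange.PicLift
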