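import Groth.Agent.Lib.Exchange.PicLift.Cech2
import Groth.Agent.H97.GlueLine
import Groth.Agent.H95.Torsor.Pic
import Groth.Agent.Lib.Modules.ProjFormula
import Mathlib.AlgebraicGeometry.Morphisms.Separated
import Groth.Agent.Lib.Lim.Thickening

/-!
# Lifting an invertible module through a thickening
-/

set_option autoImplicit false
universe u

open CategoryTheory CategoryTheory.Limits AlgebraicGeometry TopologicalSpace Opposite

namespace Groth.Agent.Lib.Exchange.PicLift

open Groth.Agent.Lib.TensorMod.Gen Groth.Agent.Lib.TensorMod.Dual Groth.Agent.Lib.TensorMod.Pullback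
  Groth.Agent.Lib.Ample.GenLocus
open Groth.Agent.H95.Units (K ev ev_add ev_res ev_injective ev_zero)
open Groth.Agent.H95.Torsor (isUnit_of_gen_eq exists_smul_eq smul_inj isUnit_of_app
  exists_ev_of_app_eq_one app_ev rf_app)
open Groth.Agent.Lib.Cech.Complex (Cochain dC dC_apply inter inter_le inter_le_face res)

variable {X Z : Scheme.{u}} (i : Z ⟶ X) [IsClosedImmersion i] [Surjective i]

theorem ev_neg {U : X.Opens} (m : (K i).obj.obj (op U)) : ev i (-m) = (ev i m)⁻¹ :=
  eq_inv_of_mul_eq_one_left (by rw [← ev_add, neg_add_cancel, ev_zero])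

theorem unitsMap_ev {U V : X.Opens} (h : V ≤ U) (m : (K i).obj.obj (op U)) :
    Units.map (X.presheaf.map (homOfLE h).op).hom.toMonoidHom (ev i m) =
      ev i (res (X := X.toTopCat) (K i).obj h m) :=
  Units.ext (ev_res i h m).symm

theorem cocycle_id {α : Type*} [CommGroup α] (a b c d e f : α) :
    (a * b * c⁻¹) * (c * d * e⁻¹) = (a * f * e⁻¹) * (b * d * f⁻¹) := by
  apply Additive.ofMul.injective
  simp only [ofMul_mul, ofMul_inv]
  abel

theorem trans_id {α : Type*} [CommGroup α] {x y z p q s : α} (h : y * x * z⁻¹ = p * s⁻¹ * q) :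
    (x * q⁻¹) * (y * p⁻¹) = z * s⁻¹ := by
  have h' := congrArg Additive.ofMul h
  apply Additive.ofMul.injective
  simp only [ofMul_mul, ofMul_inv] at h' ⊢
  rw [← sub_eq_zero] at h' ⊢
  rw [← h']
  abel

/-- Invertible modules lift through a thickening when `H²` of `1 + I` vanishes. -/
theorem exists_lift {Z₀ : Scheme.{u}} (j : Z₀ ⟶ Z) [IsClosedImmersion j] [Surjective j] [Z₀.IsSeparated]
    (h : Subsingleton (CohTop.H (K i) 2)) {L₀ : Z.Modules}
    (hL₀ : PicF.IsInvertible L₀) :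
    ∃ L : X.Modules, PicF.IsInvertible L ∧ Nonempty ((Scheme.Modules.pullback i).obj L ≅ L₀) := by
  -- affine opens with generators on the closed subscheme
  have hloc : ∀ x : X, ∃ (U : X.Opens) (e : Γ(L₀, i ⁻¹ᵁ U)), IsAffineOpen U ∧ x ∈ U ∧
      IsGen L₀ (i ⁻¹ᵁ U) e := fun x => by
    obtain ⟨z, rfl⟩ := i.surjective x
    obtain ⟨V, e, hzV, he⟩ := isInvertible_iff.1 hL₀ z
    obtain ⟨W, hW, hWV⟩ := i.isClosedEmbedding.isInducing.isOpen_iff.1 V.2
    obtain ⟨U, hU, hzU, hUW⟩ := exists_isAffineOpen_mem_and_subset (X := X) (x := i z) (U := ⟨W, hW⟩)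
      (show i z ∈ W from hWV.ge hzV)
    have hle : i ⁻¹ᵁ U ≤ V := fun x hx => hWV.le (hUW hx)
    exact ⟨U, rs L₀ hle e, hU, hzU, he.res hle⟩
  choose U e hU hxU he using hloc
  have hUtop : iSup U = ⊤ := eq_top_iff.2 fun x _ => Opens.mem_iSup.2 ⟨x, hxU x⟩
  -- lifts of the transition functions
  have hg : ∀ x y, ∃ g : Γ(X, U x ⊓ U y)ˣ, ∀ (W : X.Opens) (hx : W ≤ U x) (hy : W ≤ U y),
      rs L₀ (i.preimage_mono hy) (e y) = i.app W (rf (le_inf hx hy) (g : Γ(X, U x ⊓ U y))) •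
        rs L₀ (i.preimage_mono hx) (e x) := by
    intro x y
    have ha : IsAffineOpen (U x ⊓ U y) := by
      haveI : IsAffine ((j ≫ i) ⁻¹ᵁ (U x ⊓ U y) : Scheme.{u}) :=
        (((hU x).preimage (j ≫ i)).inf ((hU y).preimage (j ≫ i)) :
          IsAffineOpen ((j ≫ i) ⁻¹ᵁ (U x ⊓ U y)))
      haveI h1 : IsClosedImmersion (j ≫ i) := inferInstance
      haveI h2 : Surjective (j ≫ i) := inferInstance
      haveI : IsClosedImmersion ((j ≫ i) ∣_ (U x ⊓ U y)) := IsZariskiLocalAtTarget.restrict h1 _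
      haveI : Surjective ((j ≫ i) ∣_ (U x ⊓ U y)) := IsZariskiLocalAtTarget.restrict h2 _
      exact Lim.Thickening.isAffine_of_surjective ((j ≫ i) ∣_ (U x ⊓ U y))
    have gx := (he x).res (i.preimage_mono (inf_le_left : U x ⊓ U y ≤ U x))
    have gy := (he y).res (i.preimage_mono (inf_le_right : U x ⊓ U y ≤ U y))
    obtain ⟨v, hv⟩ := exists_smul_eq gx (rs L₀ (i.preimage_mono inf_le_right) (e y))
    obtain ⟨w, rfl⟩ := i.app_surjective (U x ⊓ U y) ha v
    have hw : IsUnit w := isUnit_of_app i (isUnit_of_gen_eq gx gy hv)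
    refine ⟨hw.unit, fun W hx hy => ?_⟩
    have := congrArg (rs L₀ (i.preimage_mono (le_inf hx hy))) hv
    rw [rs_smul, rs_rs, rs_rs, rf_app] at this
    rw [IsUnit.unit_spec]
    exact this.symm
  choose g hg using hg
  let G : ∀ (x y : X) {W : X.Opens}, W ≤ U x → W ≤ U y → Γ(X, W)ˣ := fun x y W hx hy =>
    Units.map (X.presheaf.map (homOfLE (le_inf hx hy)).op).hom.toMonoidHom (g x y)
  have hGe : ∀ (x y : X) (W : X.Opens) (hx : W ≤ U x) (hy : W ≤ U y),
      rs L₀ (i.preimage_mono hy) (e y) = i.app W (G x y hx hy : Γ(X, W)) • rs L₀ (i.preimage_mono hx) (e x) :=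
    fun x y W hx hy => hg x y W hx hy
  have hGres : ∀ (x y : X) {W W' : X.Opens} (h : W' ≤ W) (hx : W ≤ U x) (hy : W ≤ U y),
      Units.map (X.presheaf.map (homOfLE h).op).hom.toMonoidHom (G x y hx hy) =
        G x y (h.trans hx) (h.trans hy) :=
    fun x y W W' h hx hy => Units.ext (rf_rf (le_inf hx hy) h _)
  -- the obstruction
  have hc : ∀ j : Fin 3 → X, ∃ m : (K i).obj.obj (op (inter (X := X.toTopCat) U j)),
      ev i m = G (j 1) (j 2) (inter_le U j 1) (inter_le U j 2) * G (j 0) (j 1) (inter_le U j 0) (inter_le U j 1) *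
        (G (j 0) (j 2) (inter_le U j 0) (inter_le U j 2))⁻¹ := by
    intro j
    refine exists_ev_of_app_eq_one i _ ?_
    let V : X.Opens := inter (X := X.toTopCat) U j
    have e01 := hGe (j 0) (j 1) V (inter_le U j 0) (inter_le U j 1)
    have e12 := hGe (j 1) (j 2) V (inter_le U j 1) (inter_le U j 2)
    have e02 := hGe (j 0) (j 2) V (inter_le U j 0) (inter_le U j 2)
    rw [e01, smul_smul] at e12
    have key := smul_inj ((he (j 0)).res (i.preimage_mono (inter_le U j 0))) (e12.symm.trans e02)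
    rw [Units.val_mul, map_mul, Units.val_mul, map_mul, key, ← map_mul, Units.mul_inv, map_one]
  choose c hc using hc
  have hcres : ∀ (j : Fin 3 → X) (W : X.Opens) (hW : W ≤ inter (X := X.toTopCat) U j) (h0 : W ≤ U (j 0))
      (h1 : W ≤ U (j 1)) (h2 : W ≤ U (j 2)),
      ev i (res (X := X.toTopCat) (K i).obj hW (c j)) = G (j 1) (j 2) h1 h2 * G (j 0) (j 1) h0 h1 *
        (G (j 0) (j 2) h0 h2)⁻¹ := by
    intro j W hW h0 h1 h2
    rw [← unitsMap_ev, hc, map_mul, map_mul, map_inv]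
    exact congrArg₂ (· * ·)
      (congrArg₂ (· * ·) (hGres _ _ hW (inter_le U j 1) (inter_le U j 2))
        (hGres _ _ hW (inter_le U j 0) (inter_le U j 1)))
      (congrArg (·⁻¹) (hGres _ _ hW (inter_le U j 0) (inter_le U j 2)))
  have hcoc : dC (X := X.toTopCat) U (K i).obj 2 c = 0 := by
    funext j
    let W : X.Opens := inter (X := X.toTopCat) U j
    let hw : ∀ k, W ≤ U (j k) := fun k => inter_le U j k
    let T : Fin 4 → (K i).obj.obj (op W) := fun k =>
      res (K i).obj (inter_le_face U j k) (c (j ∘ k.succAbove))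
    have t0 : ev i (T 0) = G (j 2) (j 3) (hw 2) (hw 3) * G (j 1) (j 2) (hw 1) (hw 2) *
        (G (j 1) (j 3) (hw 1) (hw 3))⁻¹ := hcres _ W _ (hw 1) (hw 2) (hw 3)
    have t1 : ev i (T 1) = G (j 2) (j 3) (hw 2) (hw 3) * G (j 0) (j 2) (hw 0) (hw 2) *
        (G (j 0) (j 3) (hw 0) (hw 3))⁻¹ := hcres _ W _ (hw 0) (hw 2) (hw 3)
    have t2 : ev i (T 2) = G (j 1) (j 3) (hw 1) (hw 3) * G (j 0) (j 1) (hw 0) (hw 1) *
        (G (j 0) (j 3) (hw 0) (hw 3))⁻¹ := hcres _ W _ (hw 0) (hw 1) (hw 3)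
    have t3 : ev i (T 3) = G (j 1) (j 2) (hw 1) (hw 2) * G (j 0) (j 1) (hw 0) (hw 1) *
        (G (j 0) (j 2) (hw 0) (hw 2))⁻¹ := hcres _ W _ (hw 0) (hw 1) (hw 2)
    have hm : T 0 + T 2 = T 1 + T 3 := ev_injective i (by
      rw [ev_add, ev_add, t0, t1, t2, t3]
      exact cocycle_id _ _ _ _ _ _)
    rw [dC_apply, Pi.zero_apply, Fin.sum_univ_four]
    change (1 : ℤ) • T 0 + (-1 : ℤ) • T 1 + ((-1 : ℤ) ^ 2) • T 2 + ((-1 : ℤ) ^ 3) • T 3 = 0
    rw [← sub_eq_zero] at hm
    rw [← hm]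
    simp only [one_smul, neg_one_sq, neg_smul, show ((-1 : ℤ) ^ 3) = -1 from rfl]
    abel
  obtain ⟨κ, V, r, hV, a, hVtop, ha⟩ :=
    exists_refined_coboundary (X := X.toTopCat) (K i) h U hUtop c hcoc
  -- the corrected cocycle
  let u : ∀ k l, Γ(X, V k ⊓ V l)ˣ := fun k l =>
    G (r k) (r l) (inf_le_left.trans (hV k)) (inf_le_right.trans (hV l)) * ev i (-(a k l))
  have hu : ∀ (k l : κ) (W : X.Opens) (hk : W ≤ V k) (hl : W ≤ V l),
      Units.map (X.presheaf.map (homOfLE (le_inf hk hl)).op).hom.toMonoidHom (u k l) =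
        G (r k) (r l) (hk.trans (hV k)) (hl.trans (hV l)) *
          (ev i (res (X := X.toTopCat) (K i).obj (le_inf hk hl) (a k l)))⁻¹ := by
    intro k l W hk hl
    rw [map_mul, ev_neg, map_inv, unitsMap_ev]
    exact congrArg (· * _) (hGres _ _ (le_inf hk hl) (inf_le_left.trans (hV k)) (inf_le_right.trans (hV l)))
  have htrans : ∀ (k l m : κ) (W : X.Opens) (hk : W ≤ V k) (hl : W ≤ V l) (hm : W ≤ V m),
      Units.map (X.presheaf.map (homOfLE (le_inf hk hl)).op).hom.toMonoidHom (u k l) *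
        Units.map (X.presheaf.map (homOfLE (le_inf hl hm)).op).hom.toMonoidHom (u l m) =
      Units.map (X.presheaf.map (homOfLE (le_inf hk hm)).op).hom.toMonoidHom (u k m) := by
    intro k l m W hk hl hm
    have hW : W ≤ inter (X := X.toTopCat) U ![r k, r l, r m] := le_iInf fun b => by
      fin_cases b
      · exact hk.trans (hV k)
      · exact hl.trans (hV l)
      · exact hm.trans (hV m)
    have h1 := congrArg (ev i) (ha k l m W hk hl hm hW)
    rw [hcres ![r k, r l, r m] W hW (hk.trans (hV k)) (hl.trans (hV l)) (hm.trans (hV m)), ev_add,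
      sub_eq_add_neg, ev_add, ev_neg] at h1
    rw [hu k l W hk hl, hu l m W hl hm, hu k m W hk hm]
    exact trans_id h1
  let C : Groth.Agent.H97.GlueLine.Cocycle V :=
    { u := fun k l => (u k l : Γ(X, V k ⊓ V l))
      self := fun k W hW => by
        have := htrans k k k W (hW.trans inf_le_left) (hW.trans inf_le_left) (hW.trans inf_le_left)
        rw [mul_eq_left] at this
        exact congrArg Units.val this
      trans := fun k l m W hk hl hm => congrArg Units.val (htrans k l m W hk hl hm) }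
  have hCi : ∀ (k l : κ) (W : X.Opens) (hk : W ≤ V k) (hl : W ≤ V l),
      rs L₀ (i.preimage_mono (hl.trans (hV l))) (e (r l)) =
        i.app W (C.tr k l hk hl) • rs L₀ (i.preimage_mono (hk.trans (hV k))) (e (r k)) := by
    intro k l W hk hl
    have e1 : C.tr k l hk hl =
        ((G (r k) (r l) (hk.trans (hV k)) (hl.trans (hV l)) *
          (ev i (res (X := X.toTopCat) (K i).obj (le_inf hk hl) (a k l)))⁻¹ : Γ(X, W)ˣ) : Γ(X, W)) :=
      congrArg Units.val (hu k l W hk hl)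
    rw [e1, Units.val_mul, map_mul, ← ev_neg, app_ev, mul_one]
    exact hGe _ _ W (hk.trans (hV k)) (hl.trans (hV l))
  let L := Groth.Agent.H97.GlueLine.glue C
  refine ⟨L, Groth.Agent.H97.GlueLine.isInvertible_glue C hVtop, ?_⟩
  have hcovZ : iSup (fun k => i ⁻¹ᵁ V k) = ⊤ := eq_top_iff.2 fun z _ => by
    obtain ⟨k, hk⟩ := Opens.mem_iSup.1 (hVtop.ge (Opens.mem_top (i z)))
    exact Opens.mem_iSup.2 ⟨k, hk⟩
  obtain ⟨φ, -⟩ := Groth.Agent.Lib.TensorMod.HomGlue.exists_iso_of_gen (L := (pb i).obj L) (M := L₀) hcovZ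
    (fun k => unitSec i L (Groth.Agent.H97.GlueLine.gen C k))
    (fun k => isGen_unitSec i (Groth.Agent.H97.GlueLine.isGen_gen C k))
    (fun k => rs L₀ (i.preimage_mono (hV k)) (e (r k)))
    (fun k => (he (r k)).res (i.preimage_mono (hV k)))
    fun k l W hk hl d hd => by
      -- the transition function on the closed subscheme
      have hgen := Groth.Agent.H97.GlueLine.rs_gen C l k (inf_le_right : V k ⊓ V l ≤ V l) inf_le_left
      have h2 := congrArg (fun s : Γ(L, V k ⊓ V l) =>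
        rs ((pb i).obj L) (show W ≤ i ⁻¹ᵁ (V k ⊓ V l) from le_inf hk hl) (unitSec i L s)) hgen
      rw [Groth.Agent.Lib.Modules.ProjFormula.unitSec_smul, rs_smul,
        ← Groth.Agent.Lib.Modules.ProjFormula.unitSec_rs, ← Groth.Agent.Lib.Modules.ProjFormula.unitSec_rs,
        rs_rs, rs_rs] at h2
      have hd' := smul_inj ((isGen_unitSec i (Groth.Agent.H97.GlueLine.isGen_gen C l)).res hl)
        (hd.symm.trans h2)
      have h3 := (congrArg (rs L₀ (show W ≤ i ⁻¹ᵁ (V k ⊓ V l) from le_inf hk hl))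
        (hCi l k (V k ⊓ V l) inf_le_right inf_le_left)).trans (rs_smul L₀ _ _ _)
      rw [rs_rs, rs_rs] at h3
      rw [rs_rs, rs_rs, h3, hd']
  exact ⟨φ⟩

end Groth.Agent.Lib.Exchange.PicLift
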